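import Cfsg.Agent.Lib.SylowTwoAlt.Product

/-!
# Iterated wreath products of the group of order two
-/

set_option autoImplicit false
set_option linter.unusedSectionVars false
set_option linter.style.haveILetI false

namespace Cfsg.Agent.Lib.SylowTwoAlt

/-- The iterated wreath product of order `2 ^ (2 ^ a - 1)`. -/
abbrev W (a : ℕ) : Type := IteratedWreathProduct C₂ a

/-- Its parity on `2 ^ a` points. -/
noncomputable def χ (a : ℕ) : W a →* ℤˣ :=
  Equiv.Perm.sign.comp (iteratedWreathToPermHom C₂ a)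

theorem card_W (a : ℕ) : Nat.card (W a) = 2 ^ (2 ^ a - 1) := by
  rw [IteratedWreathProduct.card, show Nat.card C₂ = 2 by simp, Nat.geomSum_eq (le_refl 2)]
  simp

theorem isPGroup_W (a : ℕ) : IsPGroup 2 (W a) := IsPGroup.of_card (card_W a)

theorem χ_succ (a : ℕ) (w : W a ≀ᵣ C₂) :
    χ (a + 1) w =
      χ a (w.left 1) * χ a (w.left c₂) * Equiv.Perm.sign (Equiv.mulLeft w.right) ^ 2 ^ a := by
  letI := MulAction.compHom (Fin a → C₂) (iteratedWreathToPermHom C₂ a)
  have h0 : χ (a + 1) w = Equiv.Perm.sign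
      ((Fin.succFunEquiv C₂ a).symm.permCongr
        (RegularWreathProduct.toPerm (W a) C₂ (Fin a → C₂) w)) := rfl
  have hdec : RegularWreathProduct.toPerm (W a) C₂ (Fin a → C₂) w =
      Equiv.prodCongrLeft (fun q => iteratedWreathToPermHom C₂ a (w.left q)) *
        Equiv.prodCongrRight (fun _ : Fin a → C₂ => Equiv.mulLeft w.right) := by
    ext1 p
    rfl
  rw [h0, Equiv.Perm.sign_permCongr, hdec, map_mul, Equiv.Perm.sign_prodCongrLeft,
    Equiv.Perm.sign_prodCongrRight, prod_c₂]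
  simp [χ]

theorem χ_succ_of_pos {a : ℕ} (ha : 1 ≤ a) (w : W a ≀ᵣ C₂) :
    χ (a + 1) w = χ a (w.left 1) * χ a (w.left c₂) := by
  obtain ⟨k, rfl⟩ : ∃ k, a = k + 1 := ⟨a - 1, by omega⟩
  rw [χ_succ, pow_succ' 2 k, pow_mul, pow_two, Int.units_mul_self, one_pow, mul_one]

theorem χ_surjective : ∀ a, 1 ≤ a → Function.Surjective (χ a) := by
  suffices h : ∀ a, ∃ w : W (a + 1), χ (a + 1) w = -1 by
    intro a ha u
    obtain ⟨k, rfl⟩ : ∃ k, a = k + 1 := ⟨a - 1, by omega⟩
    obtain ⟨w, hw⟩ := h k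
    rcases Int.units_eq_one_or u with rfl | rfl
    · exact ⟨1, map_one _⟩
    · exact ⟨w, hw⟩
  intro a
  induction a with
  | zero =>
    refine ⟨(swap₂ : W 0 ≀ᵣ C₂), (χ_succ 0 swap₂).trans ?_⟩
    simp only [swap₂_left, map_one, one_mul, swap₂_right, pow_zero, pow_one]
    decide
  | succ k ih =>
    obtain ⟨w, hw⟩ := ih
    refine ⟨(base w 1 : W (k + 1) ≀ᵣ C₂), (χ_succ_of_pos (Nat.le_add_left 1 k) (base w 1)).trans ?_⟩
    rw [base_left_one, base_left_c₂, hw, map_one, mul_one]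

theorem card_ker {a : ℕ} (ha : 1 ≤ a) : Nat.card (χ a).ker * 2 = 2 ^ (2 ^ a - 1) := by
  rw [← card_W a, ← Subgroup.card_mul_index (χ a).ker, Subgroup.index_ker,
    MonoidHom.range_eq_top.mpr (χ_surjective a ha), Subgroup.card_top]
  simp

theorem nontrivial_W {a : ℕ} (ha : 1 ≤ a) : Nontrivial (W a) := by
  rw [← Finite.one_lt_card_iff_nontrivial, card_W]
  have : 2 ^ 1 ≤ 2 ^ a := Nat.pow_le_pow_right (by norm_num) ha
  exact Nat.one_lt_two_pow (by omega)

theorem smallCenter_W : ∀ a, 1 ≤ a → SmallCenter (W a) := by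
  suffices h : ∀ a, SmallCenter (W (a + 1)) by
    intro a ha
    obtain ⟨k, rfl⟩ : ∃ k, a = k + 1 := ⟨a - 1, by omega⟩
    exact h k
  intro a
  induction a with
  | zero =>
    haveI : Subsingleton (W 0) := inferInstanceAs (Subsingleton PUnit)
    show SmallCenter (W 0 ≀ᵣ C₂)
    intro v _ w _ hv hw
    rcases c₂_cases v.right with h | h
    · exact absurd (ext₂ (w := 1) h (Subsingleton.elim _ _) (Subsingleton.elim _ _)) hv
    rcases c₂_cases w.right with h' | h'
    · exact absurd (ext₂ (w := 1) h' (Subsingleton.elim _ _) (Subsingleton.elim _ _)) hw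
    exact ext₂ (h.trans h'.symm) (Subsingleton.elim _ _) (Subsingleton.elim _ _)
  | succ k ih =>
    haveI := nontrivial_W (Nat.le_add_left 1 k)
    exact smallCenter_wreath ih

theorem center_le_commutator_W {a : ℕ} (ha : 2 ≤ a) :
    Subgroup.center (W a) ≤ commutator (W a) := by
  obtain ⟨k, rfl⟩ : ∃ k, a = k + 1 := ⟨a - 1, by omega⟩
  haveI := nontrivial_W (show 1 ≤ k by omega)
  exact center_le_commutator (smallCenter_W k (by omega))

theorem central_of_product_W {a : ℕ} (ha : 1 ≤ a) (A B : Subgroup (W a)) (hA : A.Normal)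
    (hB : B.Normal) (hAB : ∀ a ∈ A, ∀ b ∈ B, a * b = b * a) (htop : A ⊔ B = ⊤) :
    A ≤ Subgroup.center (W a) ∨ B ≤ Subgroup.center (W a) := by
  obtain ⟨k, rfl⟩ : ∃ k, a = k + 1 := ⟨a - 1, by omega⟩
  exact @central_of_product (W k) _ A B hA hB hAB htop

theorem not_decomp_W {a : ℕ} (ha : 1 ≤ a) : ¬ Decomp (W a) := by
  haveI : Group.IsNilpotent (W a) := (isPGroup_W a).isNilpotent
  exact not_decomp_of_smallCenter (smallCenter_W a ha)

theorem not_decomp_ker {a : ℕ} (ha : 3 ≤ a) : ¬ Decomp ↥(χ a).ker := by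
  haveI : Group.IsNilpotent ↥(χ a).ker := ((isPGroup_W a).to_subgroup _).isNilpotent
  obtain ⟨k, rfl⟩ : ∃ k, a = k + 1 := ⟨a - 1, by omega⟩
  haveI := nontrivial_W (show 1 ≤ k by omega)
  refine not_decomp_of_smallCenter (small_center_even (χ k) ?_ (smallCenter_W k (by omega))
    (χ (k + 1)) (χ_succ_of_pos (by omega)))
  have hk : (χ k).ker ≠ ⊥ := by
    intro h
    have h1 := card_ker (show 1 ≤ k by omega)
    rw [h, Subgroup.card_bot] at h1
    have h2 : 2 ^ 2 ≤ 2 ^ k := Nat.pow_le_pow_right (by norm_num) (by omega)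
    have h3 : 2 ^ 3 ≤ 2 ^ (2 ^ k - 1) := Nat.pow_le_pow_right (by norm_num) (by omega)
    omega
  obtain ⟨x, hx, hx1⟩ := (Subgroup.bot_or_exists_ne_one _).resolve_left hk
  exact ⟨x, hx, hx1⟩

theorem sq_eq_one_of_diag {X : Type*} [Group X] (hs : ∀ x : X, x * x = 1) (v : X ≀ᵣ C₂)
    (he : v.left 1 = v.left c₂) : v * v = 1 := by
  rcases c₂_cases v.right with hr | hr <;> refine ext₂ (by simp [hr, c₂_sq]) ?_ ?_ <;>
    simp [hr, c₂_inv, c₂_sq, he, hs]

theorem decomp_ker_two : Decomp ↥(χ 2).ker := by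
  have hc : Nat.card ↥(χ 2).ker = 4 := by
    have h1 := card_ker (show 1 ≤ 2 by norm_num)
    rw [show (2 : ℕ) ^ (2 ^ 2 - 1) = 8 by norm_num] at h1
    omega
  refine decomp_of_four hc ?_
  haveI : Subsingleton (W 0) := inferInstanceAs (Subsingleton PUnit)
  have h1 : Function.Injective (χ 1) := by
    rw [← MonoidHom.ker_eq_bot_iff, ← Subgroup.card_eq_one]
    have h2 := card_ker (le_refl 1)
    rw [show (2 : ℕ) ^ (2 ^ 1 - 1) = 2 by norm_num] at h2
    omega
  rintro ⟨w, hw⟩
  refine Subtype.ext ?_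
  have hw' : χ 1 (w.left 1) * χ 1 (w.left c₂) = 1 := (χ_succ_of_pos (le_refl 1) w).symm.trans hw
  have he : w.left 1 = w.left c₂ := h1 (by
    rcases Int.units_eq_one_or (χ 1 (w.left 1)) with h | h <;> rw [h] at hw' ⊢
    · rw [one_mul] at hw'; exact hw'.symm
    · rw [neg_one_mul, neg_eq_iff_eq_neg] at hw'; exact hw'.symm)
  have hs : ∀ x : W 1, x * x = 1 := fun x => h1 (by rw [map_mul, map_one, Int.units_mul_self])
  exact sq_eq_one_of_diag hs w he

/-- Legendre's formula for the prime two in terms of the binary digits. -/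
theorem padicValNat_two_factorial (N : ℕ) :
    padicValNat 2 N.factorial + N.bitIndices.length = N := by
  induction N using Nat.strong_induction_on with
  | _ N ih =>
    rcases Nat.eq_zero_or_pos N with rfl | hN
    · simp
    rcases Nat.even_or_odd' N with ⟨k, rfl | rfl⟩
    · rw [padicValNat_factorial_mul, Nat.bitIndices_two_mul, List.length_map]
      have := ih k (by omega)
      omega
    · rw [padicValNat_factorial_mul_add k (by norm_num : 1 < 2), padicValNat_factorial_mul,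
        Nat.bitIndices_two_mul_add_one, List.length_cons, List.length_map]
      have := ih k (by omega)
      omega

end Cfsg.Agent.Lib.SylowTwoAlt
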