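import Cfsg.Agent.Lib.SylowTwoAlt.Wreath
import Cfsg.Agent.Lib.Solvable.Nilpotent
import Cfsg.Prelude.Def_TwoFusion

/-!
# Decompositions of even parts of products
-/

set_option autoImplicit false
set_option linter.unusedSectionVars false
set_option linter.style.haveILetI false

namespace Cfsg.Agent.Lib.SylowTwoAlt

open scoped commutatorElement

/-- `K` is the direct product of two nontrivial subgroups. -/
def Decomp (K : Type*) [Group K] : Prop :=
  ∃ A B : Subgroup K, A ≠ ⊥ ∧ B ≠ ⊥ ∧ (∀ a ∈ A, ∀ b ∈ B, a * b = b * a) ∧ A ⊓ B = ⊥ ∧ A ⊔ B = ⊤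

theorem Decomp.congr {K L : Type*} [Group K] [Group L] (e : K ≃* L) (h : Decomp K) : Decomp L := by
  obtain ⟨A, B, hA, hB, hc, hi, hs⟩ := h
  refine ⟨A.map e.toMonoidHom, B.map e.toMonoidHom, ?_, ?_, ?_, ?_, ?_⟩
  · rwa [Ne, Subgroup.map_eq_bot_iff_of_injective _ e.injective]
  · rwa [Ne, Subgroup.map_eq_bot_iff_of_injective _ e.injective]
  · rintro _ ⟨a, ha, rfl⟩ _ ⟨b, hb, rfl⟩
    rw [← map_mul, ← map_mul, hc a ha b hb]
  · rw [← Subgroup.map_inf _ _ _ e.injective, hi, Subgroup.map_bot]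
  · rw [← Subgroup.map_sup, hs, Subgroup.map_top_of_surjective _ e.surjective]

/-- The transfer to internal products inside a group. -/
theorem decomp_iff {G : Type*} [Group G] (P : Subgroup G) :
    (∃ S₁ S₂ : Subgroup G, S₁ ≠ ⊥ ∧ S₂ ≠ ⊥ ∧ Cfsg.IsInternalDirectProduct S₁ S₂ P) ↔ Decomp ↥P := by
  constructor
  · rintro ⟨S₁, S₂, h1, h2, hle1, hle2, hc, hi, hs⟩
    refine ⟨S₁.subgroupOf P, S₂.subgroupOf P, ?_, ?_, ?_, ?_, ?_⟩
    · rw [Ne, Subgroup.subgroupOf_eq_bot, disjoint_iff, inf_eq_left.mpr hle1]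
      exact h1
    · rw [Ne, Subgroup.subgroupOf_eq_bot, disjoint_iff, inf_eq_left.mpr hle2]
      exact h2
    · exact fun a ha b hb => Subtype.ext (hc _ ha _ hb)
    · refine (Subgroup.eq_bot_iff_forall _).mpr fun x hx => Subtype.ext ?_
      have : (x : G) ∈ S₁ ⊓ S₂ := ⟨hx.1, hx.2⟩
      rw [hi] at this
      exact Subgroup.mem_bot.mp this
    · rw [← Subgroup.subgroupOf_sup hle1 hle2, hs, Subgroup.subgroupOf_self]
  · rintro ⟨A, B, hA, hB, hc, hi, hs⟩
    refine ⟨A.map P.subtype, B.map P.subtype, ?_, ?_, Subgroup.map_subtype_le A,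
      Subgroup.map_subtype_le B, ?_, ?_, ?_⟩
    · rwa [Ne, Subgroup.map_eq_bot_iff_of_injective _ P.subtype_injective]
    · rwa [Ne, Subgroup.map_eq_bot_iff_of_injective _ P.subtype_injective]
    · rintro _ ⟨a, ha, rfl⟩ _ ⟨b, hb, rfl⟩
      exact congrArg Subtype.val (hc a ha b hb)
    · rw [← Subgroup.map_inf _ _ _ P.subtype_injective, hi, Subgroup.map_bot]
    · rw [← Subgroup.map_sup, hs, ← MonoidHom.range_eq_map, Subgroup.range_subtype]

theorem normal_of_decomp {K : Type*} [Group K] {A B : Subgroup K}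
    (hc : ∀ a ∈ A, ∀ b ∈ B, a * b = b * a) (hs : A ⊔ B = ⊤) : A.Normal := by
  rw [← Subgroup.normalizer_eq_top_iff, eq_top_iff, ← hs]
  refine sup_le Subgroup.le_normalizer (le_trans ?_ (Subgroup.centralizer_le_normalizer _))
  intro b hb
  exact Subgroup.mem_centralizer_iff.mpr fun a ha => hc a ha b hb

theorem not_decomp_of_smallCenter {K : Type*} [Group K] [Finite K] [Group.IsNilpotent K]
    (h : SmallCenter K) : ¬ Decomp K := by
  rintro ⟨A, B, hA, hB, hc, hi, hs⟩
  haveI := normal_of_decomp hc hs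
  haveI := normal_of_decomp (fun b hb a ha => (hc a ha b hb).symm) (by rw [sup_comm]; exact hs)
  obtain ⟨x, hx, hx1⟩ := (Subgroup.bot_or_exists_ne_one _).resolve_left
    (Solvable.inf_center_ne_bot hA)
  obtain ⟨y, hy, hy1⟩ := (Subgroup.bot_or_exists_ne_one _).resolve_left
    (Solvable.inf_center_ne_bot hB)
  have hxy := h x hx.2 y hy.2 hx1 hy1
  have : x ∈ A ⊓ B := ⟨hx.1, hxy ▸ hy.1⟩
  rw [hi] at this
  exact hx1 (Subgroup.mem_bot.mp this)

theorem decomp_of_four {K : Type*} [Group K] (hcard : Nat.card K = 4) (hsq : ∀ x : K, x * x = 1) :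
    Decomp K := by
  haveI : Finite K := Nat.finite_of_card_ne_zero (by omega)
  have hcomm : ∀ a b : K, a * b = b * a := fun a b => by
    have h := hsq (a * b)
    rw [mul_eq_one_iff_eq_inv, mul_inv_rev, inv_eq_of_mul_eq_one_right (hsq a),
      inv_eq_of_mul_eq_one_right (hsq b)] at h
    exact h
  have hord : ∀ x : K, x ≠ 1 → Nat.card (Subgroup.zpowers x) = 2 := fun x hx => by
    rw [Nat.card_zpowers]
    exact orderOf_eq_prime (by rw [pow_two, hsq]) hx
  obtain ⟨x, -, hx⟩ : ∃ x, x ∈ (⊤ : Subgroup K) ∧ x ≠ 1 := by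
    refine (Subgroup.bot_or_exists_ne_one _).resolve_left fun h => ?_
    have := congrArg (fun H : Subgroup K => Nat.card H) h
    simp [hcard] at this
  obtain ⟨y, hy⟩ : ∃ y, y ∉ Subgroup.zpowers x := by
    by_contra hcon
    push Not at hcon
    have h := hord x hx
    rw [(Subgroup.eq_top_iff' _).mpr hcon, Subgroup.card_top, hcard] at h
    omega
  have hy1 : y ≠ 1 := fun h => hy (h ▸ one_mem _)
  refine ⟨Subgroup.zpowers x, Subgroup.zpowers y, by simpa using hx, by simpa using hy1,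
    fun a _ b _ => hcomm a b, ?_, ?_⟩
  · rw [inf_comm]
    rcases (Nat.dvd_prime Nat.prime_two).mp ((hord y hy1) ▸ Subgroup.card_dvd_of_le
      (inf_le_left : Subgroup.zpowers y ⊓ Subgroup.zpowers x ≤ _)) with h | h
    · exact Subgroup.card_eq_one.mp h
    · have heq := Subgroup.eq_of_le_of_card_ge
        (inf_le_left : Subgroup.zpowers y ⊓ Subgroup.zpowers x ≤ _) (by rw [h, hord y hy1])
      exact absurd (heq.ge (Subgroup.mem_zpowers y)).2 hy
  · set D := Subgroup.zpowers x ⊔ Subgroup.zpowers y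
    have h1 : 2 ∣ Nat.card D := (hord x hx) ▸ Subgroup.card_dvd_of_le le_sup_left
    have h2 : Nat.card D ∣ 4 := hcard ▸ Subgroup.card_subgroup_dvd_card D
    have h3 : Nat.card D ≠ 2 := fun h => hy (by
      rw [Subgroup.eq_of_le_of_card_ge (le_sup_left : Subgroup.zpowers x ≤ D)
        (by rw [h, hord x hx])]
      exact Subgroup.mem_sup_right (Subgroup.mem_zpowers y))
    refine Subgroup.eq_top_of_card_eq D ?_
    have h4 : Nat.card D ≤ 4 := Nat.le_of_dvd (by norm_num) h2
    obtain ⟨k, hk⟩ := h1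
    have h5 : 0 < Nat.card D := Nat.card_pos
    have : Nat.card D ≠ 0 := h5.ne'
    rcases h2 with ⟨c, hc⟩
    have hk2 : k ≤ 2 := by omega
    interval_cases k <;> omega

variable {ι : Type*} [Fintype ι] [DecidableEq ι] {W : ι → Type*} [∀ i, Group (W i)]

theorem decomp_pi {i j : ι} (hij : i ≠ j) [Nontrivial (W i)] [Nontrivial (W j)] :
    Decomp (∀ k, W k) := by
  refine ⟨(MonoidHom.mulSingle W i).range, (Pi.evalMonoidHom W i).ker, ?_, ?_, ?_, ?_, ?_⟩
  · obtain ⟨x, hx⟩ := exists_ne (1 : W i)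
    intro h
    have : (Pi.mulSingle i x : ∀ k, W k) ∈ (⊥ : Subgroup (∀ k, W k)) := h ▸ ⟨x, rfl⟩
    exact hx (by simpa using congrFun (Subgroup.mem_bot.mp this) i)
  · obtain ⟨x, hx⟩ := exists_ne (1 : W j)
    intro h
    have : (Pi.mulSingle j x : ∀ k, W k) ∈ (⊥ : Subgroup (∀ k, W k)) :=
      h ▸ show (Pi.mulSingle j x : ∀ k, W k) i = 1 by simp [hij]
    exact hx (by simpa using congrFun (Subgroup.mem_bot.mp this) j)
  · rintro _ ⟨x, rfl⟩ b hb
    funext k
    rcases eq_or_ne k i with rfl | hk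
    · have : b k = 1 := hb
      simp [this]
    · simp [hk]
  · refine (Subgroup.eq_bot_iff_forall _).mpr ?_
    rintro _ ⟨⟨x, rfl⟩, hb⟩
    have : x = 1 := by simpa using hb
    simp [this]
  · refine (Subgroup.eq_top_iff' _).mpr fun f => ?_
    have h : f = Pi.mulSingle i (f i) * ((Pi.mulSingle i (f i))⁻¹ * f) := by group
    rw [h]
    exact mul_mem (Subgroup.mem_sup_left ⟨f i, rfl⟩)
      (Subgroup.mem_sup_right (show ((Pi.mulSingle i (f i))⁻¹ * f : ∀ k, W k) i = 1 by simp))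

/-- The total parity. -/
noncomputable def parity (χ : ∀ i, W i →* ℤˣ) : (∀ i, W i) →* ℤˣ :=
  ∏ i, (χ i).comp (Pi.evalMonoidHom W i)

theorem parity_apply (χ : ∀ i, W i →* ℤˣ) (f : ∀ i, W i) : parity χ f = ∏ i, χ i (f i) := by
  simp [parity]

theorem parity_mulSingle (χ : ∀ i, W i →* ℤˣ) (i : ι) (x : W i) :
    parity χ (Pi.mulSingle i x) = χ i x := by
  rw [parity_apply, Finset.prod_eq_single i (fun j _ hj => by simp [hj]) (by simp),
    Pi.mulSingle_eq_same]

/-- The even part of a product of at least two components is indecomposable. -/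
theorem not_decomp_even (χ : ∀ i, W i →* ℤˣ) (hsurj : ∀ i, Function.Surjective (χ i))
    (hz : ∀ i, Subgroup.center (W i) ≤ commutator (W i))
    (hcp : ∀ i (A B : Subgroup (W i)), A.Normal → B.Normal →
      (∀ a ∈ A, ∀ b ∈ B, a * b = b * a) → A ⊔ B = ⊤ →
        A ≤ Subgroup.center (W i) ∨ B ≤ Subgroup.center (W i))
    (htwo : ∀ i : ι, ∃ j, j ≠ i) : ¬ Decomp ↥(parity χ).ker := by
  set E := (parity χ).ker
  rintro ⟨A, B, hA, hB, hc, hi, hs⟩
  let π : ∀ i, ↥E →* W i := fun i => (Pi.evalMonoidHom W i).comp E.subtype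
  have hlift : ∀ i (x : W i), ∃ j, j ≠ i ∧ ∃ u : W j, ∃ h : Pi.mulSingle i x * Pi.mulSingle j u ∈ E,
      π i ⟨_, h⟩ = x := by
    intro i x
    obtain ⟨j, hj⟩ := htwo i
    obtain ⟨u, hu⟩ := hsurj j (χ i x)
    refine ⟨j, hj, u, ?_, ?_⟩
    · show parity χ _ = 1
      rw [map_mul, parity_mulSingle, parity_mulSingle, hu, Int.units_mul_self]
    · show (Pi.mulSingle i x * Pi.mulSingle j u : ∀ k, W k) i = x
      simp [hj.symm]
  have hπ : ∀ i, Function.Surjective (π i) := fun i x => by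
    obtain ⟨j, -, u, h, e⟩ := hlift i x
    exact ⟨_, e⟩
  haveI := normal_of_decomp hc hs
  haveI := normal_of_decomp (fun b hb a ha => (hc a ha b hb).symm) (by rw [sup_comm]; exact hs)
  have hcomp : ∀ i, A.map (π i) ≤ Subgroup.center (W i) ∨ B.map (π i) ≤ Subgroup.center (W i) := by
    intro i
    refine hcp i _ _ (Subgroup.Normal.map ‹_› _ (hπ i)) (Subgroup.Normal.map ‹_› _ (hπ i)) ?_ ?_
    · rintro _ ⟨a, ha, rfl⟩ _ ⟨b, hb, rfl⟩
      rw [← map_mul, ← map_mul, hc a ha b hb]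
    · rw [← Subgroup.map_sup, hs, Subgroup.map_top_of_surjective _ (hπ i)]
  have heven : ∀ i, ∀ z ∈ Subgroup.center (W i), χ i z = 1 := fun i z hz' => by
    refine (show commutator (W i) ≤ (χ i).ker from ?_) (hz i hz')
    exact Abelianization.commutator_subset_ker (χ i)
  have hsplit : ∀ e : ↥E, ∃ a ∈ A, ∃ b ∈ B, a * b = e := fun e => by
    have : e ∈ ((A ⊔ B : Subgroup ↥E) : Set ↥E) := hs ▸ Subgroup.mem_top e
    rw [Subgroup.mul_normal] at this
    obtain ⟨a, ha, b, hb, h⟩ := Set.mem_mul.mp this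
    exact ⟨a, ha, b, hb, h⟩
  -- all components agree on which factor is central
  have hall : (∀ i, B.map (π i) ≤ Subgroup.center (W i)) ∨
      ∀ i, A.map (π i) ≤ Subgroup.center (W i) := by
    by_contra hcon
    push Not at hcon
    obtain ⟨⟨j, hj⟩, ⟨i, hi'⟩⟩ := hcon
    have hjA := (hcomp j).resolve_right hj
    have hiB := (hcomp i).resolve_left hi'
    have hij : i ≠ j := fun h => by subst h; exact hi' hjA
    obtain ⟨u, hu⟩ := hsurj i (-1)
    obtain ⟨v, hv⟩ := hsurj j (-1)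
    have hmem : Pi.mulSingle i u * Pi.mulSingle j v ∈ E := by
      show parity χ _ = 1
      rw [map_mul, parity_mulSingle, parity_mulSingle, hu, hv, Int.units_mul_self]
    obtain ⟨a, ha, b, hb, hab⟩ := hsplit ⟨_, hmem⟩
    have hsum : parity χ (a : ∀ k, W k) = 1 := a.2
    rw [parity_apply, Finset.prod_eq_single i ?_ (by simp)] at hsum
    · have h1 : (a : ∀ k, W k) i * (b : ∀ k, W k) i = u := by
        have := congrFun (congrArg Subtype.val hab) i
        simpa [hij] using this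
      have h2 := congrArg (χ i) h1
      rw [map_mul, hsum, heven i ((b : ∀ k, W k) i) (hiB ⟨b, hb, rfl⟩), hu] at h2
      exact absurd h2 (by decide)
    · intro k _ hk
      rcases hcomp k with hA' | hB'
      · exact heven k _ (hA' ⟨a, ha, rfl⟩)
      · have h1 : (a : ∀ k, W k) k * (b : ∀ k, W k) k = (Pi.mulSingle i u * Pi.mulSingle j v : ∀ k, W k) k :=
          congrFun (congrArg Subtype.val hab) k
        rcases eq_or_ne k j with rfl | hkj
        · exact heven _ _ (hjA ⟨a, ha, rfl⟩)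
        · have h2 := congrArg (χ k) h1
          rw [map_mul, heven k ((b : ∀ k, W k) k) (hB' ⟨b, hb, rfl⟩)] at h2
          simpa [hk, hkj] using h2
  -- the central factor is trivial
  have key : ∀ A B : Subgroup ↥E, A.Normal → (∀ a ∈ A, ∀ b ∈ B, a * b = b * a) → A ⊓ B = ⊥ →
      A ⊔ B = ⊤ → (∀ i, B.map (π i) ≤ Subgroup.center (W i)) → B = ⊥ := by
    intro A B hAn hc hi hs hBc
    have hsing : ∀ i, ∀ x ∈ commutator (W i), ∃ h : Pi.mulSingle i x ∈ E, (⟨_, h⟩ : ↥E) ∈ commutator ↥E := by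
      intro i x hx
      rw [commutator_eq_closure] at hx
      induction hx using Subgroup.closure_induction with
      | mem y hy =>
        obtain ⟨p, q, rfl⟩ := hy
        obtain ⟨j, hj⟩ := htwo i
        obtain ⟨u₀, hu₀⟩ := hsurj j (-1)
        have hlift' : ∀ p : W i, ∃ n : ℕ, Pi.mulSingle i p * Pi.mulSingle j (u₀ ^ n) ∈ E := by
          intro p
          rcases Int.units_eq_one_or (χ i p) with h | h
          · exact ⟨0, show parity χ _ = 1 by rw [map_mul, parity_mulSingle, parity_mulSingle, pow_zero, map_one, mul_one, h]⟩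
          · exact ⟨1, show parity χ _ = 1 by rw [map_mul, parity_mulSingle, parity_mulSingle, pow_one, hu₀, h, Int.units_mul_self]⟩
        obtain ⟨n, hn⟩ := hlift' p
        obtain ⟨m, hm⟩ := hlift' q
        have heq : ((⁅(⟨_, hn⟩ : ↥E), ⟨_, hm⟩⁆ : ↥E) : ∀ k, W k) = Pi.mulSingle i ⁅p, q⁆ := by
          funext k
          rcases eq_or_ne k i with rfl | hk
          · simp [commutatorElement_def, hj.symm]
          · rcases eq_or_ne k j with rfl | hkj
            · simp [commutatorElement_def, hk]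
              group
            · simp [commutatorElement_def, hk, hkj]
        refine ⟨heq ▸ (⁅(⟨_, hn⟩ : ↥E), ⟨_, hm⟩⁆ : ↥E).2, ?_⟩
        rw [commutator_def]
        convert Subgroup.commutator_mem_commutator (Subgroup.mem_top (⟨_, hn⟩ : ↥E)) (Subgroup.mem_top (⟨_, hm⟩ : ↥E)) using 1
        exact Subtype.ext heq.symm
      | one => exact ⟨by simp, by convert one_mem (commutator ↥E) using 1; exact Subtype.ext (by simp)⟩
      | mul y z _ _ ihy ihz =>
        obtain ⟨h1, h1'⟩ := ihy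
        obtain ⟨h2, h2'⟩ := ihz
        refine ⟨by rw [Pi.mulSingle_mul]; exact mul_mem h1 h2, ?_⟩
        convert mul_mem h1' h2' using 1
        exact Subtype.ext (Pi.mulSingle_mul i y z)
      | inv y _ ihy =>
        obtain ⟨h1, h1'⟩ := ihy
        refine ⟨by rw [Pi.mulSingle_inv]; exact inv_mem h1, ?_⟩
        convert inv_mem h1' using 1
        exact Subtype.ext (Pi.mulSingle_inv i y)
    have hBder : B ≤ commutator ↥E := by
      intro b hb
      have hmem : ∀ i, (b : ∀ k, W k) i ∈ commutator (W i) := fun i => hz i (hBc i ⟨b, hb, rfl⟩)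
      let H : Subgroup (∀ k, W k) := (commutator ↥E).map E.subtype
      have hbH : (b : ∀ k, W k) ∈ H := Subgroup.pi_mem_of_mulSingle_mem _ fun i => by
        obtain ⟨h, h'⟩ := hsing i _ (hmem i)
        exact ⟨⟨_, h⟩, h', rfl⟩
      obtain ⟨c, hc', hcb⟩ := hbH
      exact (Subtype.ext hcb : c = b) ▸ hc'
    have hderA : commutator ↥E ≤ A := by
      rw [commutator_eq_closure, Subgroup.closure_le]
      rintro _ ⟨p, q, rfl⟩
      have hsp : ∀ e : ↥E, e ∈ A ⊔ B := fun e => hs ▸ Subgroup.mem_top e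
      have hBab : ∀ b ∈ B, ∀ b' ∈ B, b * b' = b' * b := fun b hb b' hb' => Subtype.ext (funext fun k =>
        (Subgroup.mem_center_iff.mp (hBc k ⟨b', hb', rfl⟩) _))
      have hle : A ⊔ B ≤ Subgroup.centralizer (B : Set ↥E) := sup_le
        (fun a ha => Subgroup.mem_centralizer_iff.mpr fun b hb => (hc a ha b hb).symm)
        (fun b hb => Subgroup.mem_centralizer_iff.mpr fun b' hb' => hBab b' hb' b hb)
      obtain ⟨a, ha, b, hb, rfl⟩ : ∃ a ∈ A, ∃ b ∈ B, a * b = q := by
        have : q ∈ ((A ⊔ B : Subgroup ↥E) : Set ↥E) := hsp q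
        rw [Subgroup.normal_mul] at this
        obtain ⟨a, ha, b, hb, h⟩ := Set.mem_mul.mp this
        exact ⟨a, ha, b, hb, h⟩
      have hpb : b * p = p * b := Subgroup.mem_centralizer_iff.mp (hle (hsp p)) b hb
      have : ⁅p, a * b⁆ = (p * a * p⁻¹) * a⁻¹ := by
        rw [commutatorElement_def]
        calc p * (a * b) * p⁻¹ * (a * b)⁻¹ = p * a * (b * p⁻¹) * b⁻¹ * a⁻¹ := by group
          _ = p * a * (p⁻¹ * b) * b⁻¹ * a⁻¹ := by
            rw [(Commute.inv_right (show Commute b p from hpb)).eq]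
          _ = _ := by group
      rw [SetLike.mem_coe, this]
      exact mul_mem (hAn.conj_mem _ ha _) (inv_mem ha)
    exact eq_bot_iff.mpr fun b hb => hi ▸ ⟨hderA (hBder hb), hb⟩
  rcases hall with h | h
  · exact hB (key A B ‹_› hc hi hs h)
  · exact hA (key B A ‹_› (fun b hb a ha => (hc a ha b hb).symm) (by rw [inf_comm]; exact hi)
      (by rw [sup_comm]; exact hs) h)

end Cfsg.Agent.Lib.SylowTwoAlt
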