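import Mathlib

/-!
# Wreath products with a group of order two and their even parts
-/

set_option autoImplicit false
set_option linter.unusedSectionVars false

namespace Cfsg.Agent.Lib.SylowTwoAlt

open scoped commutatorElement

/-- The group of order two. -/
abbrev C₂ : Type := Multiplicative (ZMod 2)

/-- Its nontrivial element. -/
def c₂ : C₂ := Multiplicative.ofAdd 1

theorem c₂_cases : ∀ q : C₂, q = 1 ∨ q = c₂ := by decide
theorem c₂_ne : c₂ ≠ 1 := by decide
theorem c₂_sq : c₂ * c₂ = 1 := by decide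
theorem c₂_inv : c₂⁻¹ = c₂ := by decide

theorem prod_c₂ {M : Type*} [CommMonoid M] (f : C₂ → M) : ∏ q, f q = f 1 * f c₂ := by
  have h : (Finset.univ : Finset C₂) = {1, c₂} := by decide
  rw [h, Finset.prod_pair c₂_ne.symm]

/-- At most one nontrivial central element. -/
def SmallCenter (X : Type*) [Group X] : Prop :=
  ∀ x ∈ Subgroup.center X, ∀ y ∈ Subgroup.center X, x ≠ 1 → y ≠ 1 → x = y

theorem SmallCenter.sq {X : Type*} [Group X] (h : SmallCenter X) {x : X}
    (hx : x ∈ Subgroup.center X) : x⁻¹ = x := by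
  by_cases h1 : x = 1
  · rw [h1, inv_one]
  · exact h _ (inv_mem hx) x hx (inv_ne_one.mpr h1) h1

variable {X : Type*} [Group X]

/-- A base element. -/
def base (a b : X) : X ≀ᵣ C₂ := ⟨fun q => if q = 1 then a else b, 1⟩

/-- The swap. -/
def swap₂ : X ≀ᵣ C₂ := RegularWreathProduct.inl c₂

@[simp] theorem base_right (a b : X) : (base a b).right = 1 := rfl
@[simp] theorem base_left_one (a b : X) : (base a b).left 1 = a := rfl
@[simp] theorem base_left_c₂ (a b : X) : (base a b).left c₂ = b := by simp [base, c₂_ne]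
@[simp] theorem swap₂_right : (swap₂ : X ≀ᵣ C₂).right = c₂ := rfl
@[simp] theorem swap₂_left (q : C₂) : (swap₂ : X ≀ᵣ C₂).left q = 1 := rfl

theorem ext₂ {v w : X ≀ᵣ C₂} (hr : v.right = w.right) (h1 : v.left 1 = w.left 1)
    (h2 : v.left c₂ = w.left c₂) : v = w := by
  refine RegularWreathProduct.ext (funext fun q => ?_) hr
  rcases c₂_cases q with rfl | rfl
  exacts [h1, h2]

theorem eq_base {w : X ≀ᵣ C₂} (h : w.right = 1) : w = base (w.left 1) (w.left c₂) :=
  ext₂ h (base_left_one _ _).symm (base_left_c₂ _ _).symm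

/-- A wreath element commuting with a base element `(a, b)`. -/
theorem commute_base {w : X ≀ᵣ C₂} {a b : X} (h : w * base a b = base a b * w) :
    (w.right = 1 → w.left 1 * a = a * w.left 1 ∧ w.left c₂ * b = b * w.left c₂) ∧
    (w.right = c₂ → w.left 1 * b = a * w.left 1 ∧ w.left c₂ * a = b * w.left c₂) := by
  have h1 := congrFun (congrArg RegularWreathProduct.left h) 1
  have h2 := congrFun (congrArg RegularWreathProduct.left h) c₂
  refine ⟨fun hr => ?_, fun hr => ?_⟩
  · exact ⟨by simpa [hr] using h1, by simpa [hr] using h2⟩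
  · exact ⟨by simpa [hr, c₂_inv] using h1, by simpa [hr, c₂_inv, c₂_sq] using h2⟩

theorem commute_swap {w : X ≀ᵣ C₂} (hr : w.right = 1) (h : w * swap₂ = swap₂ * w) :
    w.left 1 = w.left c₂ := by
  have h1 := congrFun (congrArg RegularWreathProduct.left h) 1
  simpa [hr, c₂_inv] using h1

/-- An element of the centre of the wreath product. -/
theorem mem_center_iff [Nontrivial X] {w : X ≀ᵣ C₂} :
    w ∈ Subgroup.center (X ≀ᵣ C₂) ↔ ∃ x ∈ Subgroup.center X, w = base x x := by
  constructor
  · intro hw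
    rw [Subgroup.mem_center_iff] at hw
    rcases c₂_cases w.right with hr | hr
    · refine ⟨w.left 1, Subgroup.mem_center_iff.mpr fun g => ?_, ?_⟩
      · exact ((commute_base (hw (base g g)).symm).1 hr).1.symm
      · conv_lhs => rw [eq_base hr]
        rw [commute_swap hr (hw swap₂).symm]
    · obtain ⟨g, hg⟩ := exists_ne (1 : X)
      have h := ((commute_base (hw (base g 1)).symm).2 hr).1
      rw [mul_one] at h
      exact absurd (mul_eq_right.mp h.symm) hg
  · rintro ⟨x, hx, rfl⟩
    rw [Subgroup.mem_center_iff] at hx ⊢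
    intro g
    rcases c₂_cases g.right with hr | hr <;> refine ext₂ (by simp) ?_ ?_ <;>
      simp [hr, c₂_inv, c₂_sq, hx]

theorem smallCenter_wreath [Nontrivial X] (h : SmallCenter X) : SmallCenter (X ≀ᵣ C₂) := by
  intro v hv w hw hv1 hw1
  obtain ⟨x, hx, rfl⟩ := mem_center_iff.mp hv
  obtain ⟨y, hy, rfl⟩ := mem_center_iff.mp hw
  have hx1 : x ≠ 1 := fun e => hv1 (e ▸ ext₂ rfl rfl (by simp))
  have hy1 : y ≠ 1 := fun e => hw1 (e ▸ ext₂ rfl rfl (by simp))
  rw [h x hx y hy hx1 hy1]

theorem center_le_commutator [Nontrivial X] (h : SmallCenter X) :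
    Subgroup.center (X ≀ᵣ C₂) ≤ commutator (X ≀ᵣ C₂) := by
  intro w hw
  obtain ⟨x, hx, rfl⟩ := mem_center_iff.mp hw
  have hc : base x x = ⁅(swap₂ : X ≀ᵣ C₂), base x 1⁆ := by
    refine ext₂ (by simp [commutatorElement_def, c₂_inv, c₂_sq]) ?_ ?_ <;>
      simp [commutatorElement_def, c₂_inv, c₂_sq, h.sq hx]
  rw [hc, commutator_def]
  exact Subgroup.commutator_mem_commutator (Subgroup.mem_top _) (Subgroup.mem_top _)

/-- Two commuting normal subgroups generating a wreath product: one of them is central. -/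
theorem central_of_product (A B : Subgroup (X ≀ᵣ C₂)) [A.Normal] [B.Normal]
    (hAB : ∀ a ∈ A, ∀ b ∈ B, a * b = b * a) (htop : A ⊔ B = ⊤) :
    A ≤ Subgroup.center (X ≀ᵣ C₂) ∨ B ≤ Subgroup.center (X ≀ᵣ C₂) := by
  -- if `B` has an element outside the base group, `A` is central
  have key : ∀ (A B : Subgroup (X ≀ᵣ C₂)), A.Normal → (∀ a ∈ A, ∀ b ∈ B, a * b = b * a) →
      A ⊔ B = ⊤ → ∀ b ∈ B, b.right = c₂ → A ≤ Subgroup.center (X ≀ᵣ C₂) := by
    intro A B hA hAB htop b hb hbr
    have hdiag : ∀ p q : X, base p q ∈ A → b.left 1 * q = p * b.left 1 := fun p q h =>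
      ((commute_base (hAB _ h b hb).symm).2 hbr).1
    have hcent : ∀ a ∈ A, a.right = 1 → a ∈ Subgroup.center (X ≀ᵣ C₂) := by
      intro a ha hr
      rw [eq_base hr] at ha ⊢
      set p := a.left 1
      set q := a.left c₂
      have hp : ∀ x : X, p * x = x * p := by
        intro x
        have h1 : base (x * p * x⁻¹ * p⁻¹) 1 ∈ A := by
          have h2 : base (x * p * x⁻¹ * p⁻¹) 1 = base x 1 * base p q * (base x 1)⁻¹ * (base p q)⁻¹ := by
            refine ext₂ (by simp) ?_ ?_ <;> simp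
          rw [h2]
          exact mul_mem (hA.conj_mem _ ha _) (inv_mem ha)
        have h3 := hdiag _ _ h1
        rw [mul_one] at h3
        have h4 := mul_eq_right.mp h3.symm
        rw [mul_inv_eq_one] at h4
        exact (mul_inv_eq_iff_eq_mul.mp h4).symm
      have hpc : p ∈ Subgroup.center X := Subgroup.mem_center_iff.mpr fun g => (hp g).symm
      have hqp : q = p := by
        have h1 := hdiag p q ha
        rw [hp (b.left 1)] at h1
        exact mul_left_cancel h1
      rw [hqp, Subgroup.mem_center_iff]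
      intro g
      rcases c₂_cases g.right with hr | hr <;> refine ext₂ (by simp) ?_ ?_ <;>
        simp [hr, c₂_inv, c₂_sq, hp]
    have habel : ∀ a ∈ A, ∀ a' ∈ A, a * a' = a' * a := by
      intro a ha a' ha'
      rcases c₂_cases a.right with hr | hr
      · exact (Subgroup.mem_center_iff.mp (hcent a ha hr) a').symm
      rcases c₂_cases a'.right with hr' | hr'
      · exact Subgroup.mem_center_iff.mp (hcent a' ha' hr') a
      have hd : a⁻¹ * a' ∈ Subgroup.center (X ≀ᵣ C₂) :=
        hcent _ (mul_mem (inv_mem ha) ha') (by simp [hr, hr', c₂_inv, c₂_sq])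
      rw [show a' = a * (a⁻¹ * a') by group]
      exact ((Commute.refl a).mul_right (Subgroup.mem_center_iff.mp hd a)).eq
    intro a ha
    rw [Subgroup.mem_center_iff]
    intro g
    have hg : g ∈ A ⊔ B := htop ▸ Subgroup.mem_top g
    have hle : A ⊔ B ≤ Subgroup.centralizer ({a} : Set (X ≀ᵣ C₂)) := sup_le
      (fun x hx => Subgroup.mem_centralizer_singleton_iff.mpr (habel x hx a ha))
      (fun x hx => Subgroup.mem_centralizer_singleton_iff.mpr (hAB a ha x hx).symm)
    exact Subgroup.mem_centralizer_singleton_iff.mp (hle hg)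
  by_cases hB : ∃ b ∈ B, b.right = c₂
  · obtain ⟨b, hb, hbr⟩ := hB
    exact Or.inl (key A B ‹_› hAB htop b hb hbr)
  · by_cases hA : ∃ a ∈ A, a.right = c₂
    · obtain ⟨a, ha, har⟩ := hA
      exact Or.inr (key B A ‹_› (fun x hx y hy => (hAB y hy x hx).symm)
        (by rw [sup_comm]; exact htop) a ha har)
    · exfalso
      have hle : A ⊔ B ≤ (RegularWreathProduct.rightHom : X ≀ᵣ C₂ →* C₂).ker := by
        push Not at hA hB
        exact sup_le (fun a ha => (c₂_cases a.right).resolve_right (hA a ha))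
          (fun b hb => (c₂_cases b.right).resolve_right (hB b hb))
      rw [htop] at hle
      exact c₂_ne (hle (Subgroup.mem_top (swap₂ : X ≀ᵣ C₂)))

/-- The centre of the kernel of `Π χ` on the wreath product. -/
theorem small_center_even [Nontrivial X] (χ : X →* ℤˣ) (hk : ∃ k : X, χ k = 1 ∧ k ≠ 1)
    (hX : SmallCenter X) (ψ : X ≀ᵣ C₂ →* ℤˣ) (hψ : ∀ w, ψ w = χ (w.left 1) * χ (w.left c₂)) :
    SmallCenter ↥ψ.ker := by
  obtain ⟨k, hk, hk1⟩ := hk
  have main : ∀ v ∈ Subgroup.center ↥ψ.ker, ∃ x ∈ Subgroup.center X, (v : X ≀ᵣ C₂) = base x x := by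
    intro v hv
    rw [Subgroup.mem_center_iff] at hv
    have hc : ∀ w : X ≀ᵣ C₂, ψ w = 1 → (v : X ≀ᵣ C₂) * w = w * v := fun w hw =>
      (congrArg Subtype.val (hv ⟨w, hw⟩)).symm
    have hsw : ψ swap₂ = 1 := by simp [hψ]
    have hkk : ψ (base k 1) = 1 := by simp [hψ, hk]
    have hgg : ∀ g, ψ (base g g) = 1 := fun g => by simp [hψ, Int.units_mul_self]
    rcases c₂_cases (v : X ≀ᵣ C₂).right with hr | hr
    · refine ⟨(v : X ≀ᵣ C₂).left 1, Subgroup.mem_center_iff.mpr fun g => ?_, ?_⟩
      · exact ((commute_base (hc _ (hgg g))).1 hr).1.symm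
      · conv_lhs => rw [eq_base hr]
        rw [commute_swap hr (hc _ hsw)]
    · have h := ((commute_base (hc _ hkk)).2 hr).1
      rw [mul_one] at h
      exact absurd (mul_eq_right.mp h.symm) hk1
  intro v hv w hw hv1 hw1
  obtain ⟨x, hx, ex⟩ := main v hv
  obtain ⟨y, hy, ey⟩ := main w hw
  have hx1 : x ≠ 1 := fun e => hv1 (Subtype.ext (ex.trans (by
    subst e; exact ext₂ rfl rfl (by simp))))
  have hy1 : y ≠ 1 := fun e => hw1 (Subtype.ext (ey.trans (by
    subst e; exact ext₂ rfl rfl (by simp))))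
  exact Subtype.ext (by rw [ex, ey, hX x hx y hy hx1 hy1])

end Cfsg.Agent.Lib.SylowTwoAlt
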